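/-
Central extensions of SL_n over a finite field: the elementary matrices lift with the Steinberg relations.

* `commute_lift`: lifts of commuting elementary matrices commute.
* `G i k j t u`: the commutator of lifts of x_ik(t), x_kj(u); it depends only on i, j, t * u.
* `exists_section`: apart from (n, q) = (3, 2), (3, 4), (4, 2) the extension has a section.
-/
import Cfsg.Agent.Lib.Linear.SLn
import Cfsg.Agent.Lib.PGroup.Power
import Cfsg.Agent.S2401

set_option autoImplicit false
set_option linter.unusedSectionVars false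

open Matrix
open scoped commutatorElement

namespace Cfsg.Agent.SLMult

universe u

variable {ι : Type*} [Fintype ι] [DecidableEq ι] {K : Type*} [Field K]

theorem sl_eq {A B : SpecialLinearGroup ι K} (h : (A : Matrix ι ι K) = (B : Matrix ι ι K)) : A = B :=
  Subtype.ext h

/-- x_ij(t). -/
abbrev tv {i j : ι} (h : i ≠ j) (t : K) : SpecialLinearGroup ι K := SpecialLinearGroup.transvection h t

theorem tv_coe {i j : ι} (h : i ≠ j) (t : K) :
    ((tv h t : SpecialLinearGroup ι K) : Matrix ι ι K) = Matrix.transvection i j t := rfl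

theorem tv_commute {i j k l : ι} (hij : i ≠ j) (hkl : k ≠ l) (h₁ : i ≠ l) (h₂ : j ≠ k) (t u : K) :
    Commute (tv hij t : SpecialLinearGroup ι K) (tv hkl u) := by
  refine sl_eq ?_
  show Matrix.transvection i j t * Matrix.transvection k l u =
    Matrix.transvection k l u * Matrix.transvection i j t
  simp [Matrix.transvection, mul_add, add_mul, Matrix.single_mul_single_of_ne _ _ _ _ h₂,
    Matrix.single_mul_single_of_ne _ _ _ _ h₁.symm]
  abel

theorem tv_zero {i j : ι} (h : i ≠ j) : (tv h (0 : K) : SpecialLinearGroup ι K) = 1 :=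
  sl_eq (show Matrix.transvection i j (0 : K) = 1 from Matrix.transvection_zero _ _)

theorem tv_pow {i j : ι} (h : i ≠ j) (t : K) (n : ℕ) : (tv h t : SpecialLinearGroup ι K) ^ n = tv h ((n : K) * t) := by
  induction n with
  | zero => rw [pow_zero, Nat.cast_zero, zero_mul, tv_zero]
  | succ n ih =>
    rw [pow_succ, ih, Nat.cast_succ, add_mul, one_mul]
    exact (SpecialLinearGroup.transvection_add h _ _).symm

/-- The diagonal element with entries a^(e k). -/
def tor (e : ι → ℤ) (he : ∑ k, e k = 0) (a : Kˣ) : SpecialLinearGroup ι K :=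
  ⟨Matrix.diagonal fun k => ((a ^ e k : Kˣ) : K), by
    rw [Matrix.det_diagonal, ← Units.coe_prod]
    have hp : ∀ s : Finset ι, ∏ k ∈ s, a ^ e k = a ^ ∑ k ∈ s, e k := by
      intro s
      induction s using Finset.induction_on with
      | empty => simp
      | insert x s hx ih => rw [Finset.prod_insert hx, Finset.sum_insert hx, ih, _root_.zpow_add]
    rw [hp, he, _root_.zpow_zero, Units.val_one]⟩

theorem tor_conj (e : ι → ℤ) (he : ∑ k, e k = 0) (a : Kˣ) {i j : ι} (h : i ≠ j) (t : K) :
    tor e he a * tv h t * (tor e he a)⁻¹ = tv h (((a ^ (e i - e j) : Kˣ) : K) * t) := by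
  rw [mul_inv_eq_iff_eq_mul]
  refine sl_eq ?_
  show (Matrix.diagonal fun k => ((a ^ e k : Kˣ) : K)) * Matrix.transvection i j t =
    Matrix.transvection i j (((a ^ (e i - e j) : Kˣ) : K) * t) * Matrix.diagonal fun k => ((a ^ e k : Kˣ) : K)
  ext p q
  simp only [tor, Matrix.diagonal_mul, Matrix.mul_diagonal, Matrix.transvection, Matrix.add_apply,
    Matrix.one_apply, Matrix.single_apply]
  by_cases hpq : i = p ∧ j = q
  · obtain ⟨rfl, rfl⟩ := hpq
    rw [if_neg h, if_pos ⟨rfl, rfl⟩, if_pos ⟨rfl, rfl⟩, _root_.zpow_sub, Units.val_mul]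
    field_simp
    simp [mul_assoc, inv_mul_cancel₀ (zpow_ne_zero (e j) a.ne_zero)]
  · rw [if_neg hpq, if_neg hpq, add_zero]
    by_cases hpq' : p = q
    · subst hpq'; simp
    · simp [hpq']

theorem tor_pow_card [Fintype K] (e : ι → ℤ) (he : ∑ k, e k = 0) (a : Kˣ) :
    (tor e he a) ^ (Fintype.card K - 1) = 1 := by
  classical
  refine sl_eq ?_
  show (Matrix.diagonal fun k => ((a ^ e k : Kˣ) : K)) ^ (Fintype.card K - 1) = 1
  rw [Matrix.diagonal_pow, ← Matrix.diagonal_one]
  congr 1
  funext k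
  rw [Pi.pow_apply, FiniteField.pow_card_sub_one_eq_one _ (Units.ne_zero _)]

section Ext

variable {Γ : Type u} [Group Γ] {σ : Γ →* SpecialLinearGroup ι K} (hs : Function.Surjective σ)
  (hc : σ.ker ≤ Subgroup.center Γ)

include hc in
theorem central_of_one {z : Γ} (h : σ z = 1) (g : Γ) : Commute g z :=
  Subgroup.mem_center_iff.1 (hc h) g

include hc in
/-- Commutators only depend on the images. -/
theorem comm_congr {a a' b b' : Γ} (ha : σ a = σ a') (hb : σ b = σ b') : ⁅a, b⁆ = ⁅a', b'⁆ := by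
  obtain ⟨z, hz, rfl⟩ : ∃ z, σ z = 1 ∧ a = a' * z := ⟨a'⁻¹ * a, by simp [ha], by group⟩
  obtain ⟨w, hw, rfl⟩ : ∃ w, σ w = 1 ∧ b = b' * w := ⟨b'⁻¹ * b, by simp [hb], by group⟩
  have hz' := central_of_one hc hz
  have hw' := central_of_one hc hw
  rw [commutatorElement_def, commutatorElement_def]
  calc a' * z * (b' * w) * (a' * z)⁻¹ * (b' * w)⁻¹
      = a' * (z * (b' * w)) * (z⁻¹ * a'⁻¹) * (w⁻¹ * b'⁻¹) := by group
    _ = a' * ((b' * w) * z) * (z⁻¹ * a'⁻¹) * (w⁻¹ * b'⁻¹) := by rw [← (hz' (b' * w)).eq]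
    _ = a' * b' * (w * a'⁻¹) * (w⁻¹ * b'⁻¹) := by group
    _ = a' * b' * (a'⁻¹ * w) * (w⁻¹ * b'⁻¹) := by rw [← (hw' a'⁻¹).eq]
    _ = _ := by group

include hc in
theorem conj_comm (g a b a' b' : Γ) (ha : σ g * σ a * (σ g)⁻¹ = σ a')
    (hb : σ g * σ b * (σ g)⁻¹ = σ b') : g * ⁅a, b⁆ * g⁻¹ = ⁅a', b'⁆ := by
  rw [conjugate_commutatorElement]
  exact comm_congr hc (by rw [map_mul, map_mul, map_inv, ha]) (by rw [map_mul, map_mul, map_inv, hb])

include hc in
theorem commute_comm {X A B : Γ} (hA : Commute (σ X) (σ A)) (hB : Commute (σ X) (σ B)) :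
    Commute X ⁅A, B⁆ := by
  have := conj_comm hc X A B A B (by rw [hA.eq, mul_inv_cancel_right]) (by rw [hB.eq, mul_inv_cancel_right])
  exact mul_inv_eq_iff_eq_mul.1 this

include hc in
theorem commute_of_comm {X A B C : Γ} (hC : σ C = ⁅σ A, σ B⁆) (hA : Commute (σ X) (σ A))
    (hB : Commute (σ X) (σ B)) : Commute X C := by
  have h1 : Commute X (⁅A, B⁆⁻¹ * C) :=
    central_of_one hc (by rw [map_mul, map_inv, map_commutatorElement, hC, inv_mul_cancel]) X
  have := (commute_comm hc hA hB).mul_right h1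
  rwa [mul_inv_cancel_left] at this

/-- A lift of x_ij(t). -/
noncomputable def T {i j : ι} (h : i ≠ j) (t : K) : Γ := Function.surjInv hs (tv h t)

theorem σT {i j : ι} (h : i ≠ j) (t : K) : σ (T hs h t) = tv h t := Function.surjInv_eq hs _

include hs hc in
/-- Lifts of roots admitting a middle index off both commute. -/
theorem commute_of_mid {i j k l : ι} (hij : i ≠ j) (hkl : k ≠ l) (h₁ : i ≠ l) (h₂ : j ≠ k)
    {m : ι} (hmk : k ≠ m) (hml : m ≠ l) (hmi : i ≠ m) (hmj : j ≠ m) {t u : K} {X Y : Γ}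
    (hX : σ X = tv hij t) (hY : σ Y = tv hkl u) : Commute X Y := by
  obtain ⟨A, hA⟩ := hs (tv hmk u)
  obtain ⟨B, hB⟩ := hs (tv hml 1)
  refine commute_of_comm hc (A := A) (B := B) ?_ ?_ ?_
  · rw [hY, hA, hB, Linear.transvection_mul_comm hmk hml hkl, mul_one]
  · rw [hX, hA]; exact tv_commute hij hmk hmi h₂ t u
  · rw [hX, hB]; exact tv_commute hij hml h₁ hmj t 1

include hc in
theorem comm_mul_left_central {a b c : Γ} (h : Commute a ⁅b, c⁆) :
    ⁅a * b, c⁆ = ⁅b, c⁆ * ⁅a, c⁆ := PGroup.commutator_mul_left h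

variable [Fintype K]

include hs hc in
/-- A bi-additive invariant vanishes if some diagonal element scales one root only. -/
theorem commute_of_tor (e : ι → ℤ) (he : ∑ k, e k = 0) (a : Kˣ) {i j k l : ι} (hij : i ≠ j)
    (hkl : k ≠ l) (h₁ : i ≠ l) (h₂ : j ≠ k) (hk : e k = e l)
    (hne : a ^ (e i - e j) ≠ 1) {t u : K} {X Y : Γ} (hX : σ X = tv hij t) (hY : σ Y = tv hkl u) :
    Commute X Y := by
  obtain ⟨g, hg⟩ := hs (tor e he a)
  set c : K := ((a ^ (e i - e j) : Kˣ) : K) with hcdef
  have hc1 : c ≠ 1 := fun h => hne (Units.ext (by rw [← hcdef, h, Units.val_one]))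
  set s : K := t / (c - 1) with hsdef
  have hts : c * s = s + t := by
    have : s * (c - 1) = t := div_mul_cancel₀ t (sub_ne_zero.2 hc1)
    linear_combination this
  obtain ⟨S, hS⟩ := hs (tv hij s)
  have hmem : ∀ {P : Γ} {v : K}, σ P = tv hij v → σ ⁅P, Y⁆ = 1 := by
    intro P v hP
    rw [map_commutatorElement, hP, hY, commutatorElement_eq_one_iff_commute]
    exact tv_commute hij hkl h₁ h₂ v u
  have h3 : g * ⁅S, Y⁆ * g⁻¹ = ⁅X * S, Y⁆ := conj_comm hc g S Y (X * S) Y
    (by rw [hg, hS, tor_conj, map_mul, hX, hS, ← SpecialLinearGroup.transvection_add, ← hcdef, hts, add_comm])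
    (by rw [hg, hY, tor_conj, hk, sub_self, _root_.zpow_zero, Units.val_one, one_mul])
  rw [(central_of_one hc (hmem hS) g).eq, mul_inv_cancel_right,
    comm_mul_left_central hc (central_of_one hc (hmem hS) X)] at h3
  exact commutatorElement_eq_one_iff_commute.1 (left_eq_mul.1 h3)

include hs hc in
/-- A diagonal element fixing x_ij commutes with every lift of it. -/
theorem commute_tor (e : ι → ℤ) (he : ∑ k, e k = 0) (a : Kˣ) {i j : ι} (hij : i ≠ j) (hk : e i = e j)
    {t : K} {g X : Γ} (hg : σ g = tor e he a) (hX : σ X = tv hij t) : Commute g X := by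
  have h1 : σ ⁅g, X⁆ = 1 := by
    rw [map_commutatorElement, hg, hX, commutatorElement_eq_one_iff_commute]
    have := tor_conj e he a hij t
    rw [hk, sub_self, _root_.zpow_zero, Units.val_one, one_mul] at this
    exact mul_inv_eq_iff_eq_mul.1 this
  have hq1 : ⁅g, X⁆ ^ Fintype.card K = 1 := by
    rw [← PGroup.commutator_pow_right (central_of_one hc h1 X), commutatorElement_eq_one_iff_commute]
    refine central_of_one hc ?_ g
    rw [map_pow, hX, tv_pow, FiniteField.cast_card_eq_zero, zero_mul, tv_zero]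
  have hq2 : ⁅g, X⁆ ^ (Fintype.card K - 1) = 1 := by
    rw [← PGroup.commutator_pow_left (central_of_one hc h1 g), commutatorElement_eq_one_iff_commute]
    refine (central_of_one hc ?_ X).symm
    rw [map_pow, hg, tor_pow_card]
  rw [← commutatorElement_eq_one_iff_commute]
  have hpos : 1 ≤ Fintype.card K := Fintype.card_pos
  have := hq1
  rw [show Fintype.card K = Fintype.card K - 1 + 1 by omega, pow_succ, hq2, one_mul] at this
  exact this

/-- The restrictions on (n, q). -/
def Ok (ι K : Type*) [Fintype ι] [Fintype K] : Prop :=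
  3 ≤ Fintype.card ι ∧ (Fintype.card ι = 3 → Fintype.card K ≠ 2 ∧ Fintype.card K ≠ 4) ∧
    (Fintype.card ι = 4 → Fintype.card K ≠ 2)

theorem exists_notMem (s : Finset ι) (h : s.card < Fintype.card ι) : ∃ m, m ∉ s := by
  by_contra hcon
  push Not at hcon
  rw [Finset.eq_univ_of_forall hcon, Finset.card_univ] at h
  exact lt_irrefl _ h

theorem exists_unit_pow_ne {n : ℕ} (hn : n ≠ 0) (h : ¬ Fintype.card K - 1 ∣ n) :
    ∃ a : Kˣ, a ^ n ≠ 1 := by
  classical
  obtain ⟨a, ha⟩ := IsCyclic.exists_generator (α := Kˣ)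
  refine ⟨a, fun hc => h ?_⟩
  have := orderOf_dvd_of_pow_eq_one hc
  rwa [orderOf_eq_card_of_forall_mem_zpowers ha, Nat.card_eq_fintype_card, Fintype.card_units] at this

theorem sum_three (i j k : ι) :
    ∑ r, ((Pi.single i (1 : ℤ) : ι → ℤ) + Pi.single k (1 : ℤ) + Pi.single j (-2 : ℤ) : ι → ℤ) r = 0 := by
  simp [Finset.sum_add_distrib]

variable (hok : Ok ι K)

include hs hc hok in
/-- Lifts of commuting elementary matrices commute. -/
theorem commute_lift {i j k l : ι} (hij : i ≠ j) (hkl : k ≠ l) (h₁ : i ≠ l) (h₂ : j ≠ k)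
    {t u : K} {X Y : Γ} (hX : σ X = tv hij t) (hY : σ Y = tv hkl u) : Commute X Y := by
  classical
  by_cases hm : ∃ m, m ∉ ({i, j, k, l} : Finset ι)
  · obtain ⟨m, hm⟩ := hm
    simp only [Finset.mem_insert, Finset.mem_singleton, not_or] at hm
    exact commute_of_mid hs hc hij hkl h₁ h₂ (Ne.symm hm.2.2.1) hm.2.2.2 (Ne.symm hm.1)
      (Ne.symm hm.2.1) hX hY
  have hle : Fintype.card ι ≤ ({i, j, k, l} : Finset ι).card := by
    by_contra hlt
    exact hm (exists_notMem _ (not_le.1 hlt))
  have h4 : ({i, j, k, l} : Finset ι).card ≤ 4 := Finset.card_le_four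
  have hq := Fintype.one_lt_card (α := K)
  by_cases hik : i = k
  · subst hik
    have h3 : ({i, j, i, l} : Finset ι).card ≤ 3 := by
      rw [show ({i, j, i, l} : Finset ι) = {j, i, l} by ext; simp <;> tauto]
      exact Finset.card_le_three
    have hn3 : Fintype.card ι = 3 := le_antisymm (hle.trans h3) hok.1
    have hjl : j ≠ l := by
      rintro rfl
      have : ({i, j, i, j} : Finset ι).card ≤ 2 := by
        rw [show ({i, j, i, j} : Finset ι) = {i, j} by ext; simp <;> tauto]
        exact Finset.card_le_two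
      omega
    obtain ⟨a, ha⟩ := exists_unit_pow_ne (K := K) (n := 3) (by norm_num) (fun h => by
      obtain ⟨h2, h4'⟩ := hok.2.1 hn3
      have := Nat.le_of_dvd (by norm_num) h
      interval_cases hqq : Fintype.card K - 1
      all_goals omega)
    refine commute_of_tor hs hc _ (sum_three i j l) a hij hkl h₁ h₂ ?_ ?_ hX hY
    · simp [Pi.single_apply, hij, hkl, hjl, hij.symm, hkl.symm, hjl.symm]
    · simpa [Pi.single_apply, hij, hkl, hjl, hij.symm, hkl.symm, hjl.symm,
        show (1 : ℤ) + 2 = 3 by norm_num, _root_.zpow_ofNat] using ha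
  by_cases hjl : j = l
  · subst hjl
    have h3 : ({i, j, k, j} : Finset ι).card ≤ 3 := by
      rw [show ({i, j, k, j} : Finset ι) = {i, k, j} by ext; simp <;> tauto]
      exact Finset.card_le_three
    have hn3 : Fintype.card ι = 3 := le_antisymm (hle.trans h3) hok.1
    obtain ⟨a, ha⟩ := exists_unit_pow_ne (K := K) (n := 3) (by norm_num) (fun h => by
      obtain ⟨h2, h4'⟩ := hok.2.1 hn3
      have := Nat.le_of_dvd (by norm_num) h
      interval_cases hqq : Fintype.card K - 1
      all_goals omega)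
    refine commute_of_tor hs hc _ (sum_three j i k) a hij hkl h₁ h₂ ?_ ?_ hX hY
    · simp [Pi.single_apply, hij, hkl, hik, hij.symm, hkl.symm, Ne.symm hik]
    · simpa [Pi.single_apply, hij, hkl, hik, hij.symm, hkl.symm, Ne.symm hik,
        show (-2 : ℤ) - 1 = -3 by norm_num, _root_.zpow_neg, _root_.zpow_ofNat] using ha
  -- four indices
  have hn4 : ({i, j, k, l} : Finset ι).card = 4 := by simp [hij, hkl, h₁, h₂, hik, hjl]
  by_cases h5 : 5 ≤ Fintype.card ι
  · omega
  by_cases hn3 : Fintype.card ι = 3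
  · have := Finset.card_le_univ ({i, j, k, l} : Finset ι); omega
  have hn : Fintype.card ι = 4 := by have := hok.1; omega
  by_cases hq3 : Fintype.card K = 3
  · -- the swap (i k)(j l)
    have hu : ∀ x : K, x = 0 ∨ x = 1 ∨ x = -1 := by
      intro x
      by_cases hx : x = 0
      · exact Or.inl hx
      have h2 := FiniteField.pow_card_sub_one_eq_one x hx
      rw [hq3, show (3 : ℕ) - 1 = 2 from rfl, sq, mul_self_eq_one_iff] at h2
      exact Or.inr h2
    set π : Equiv.Perm ι := Equiv.swap i k * Equiv.swap j l with hπ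
    have hsgn : Equiv.Perm.sign π = 1 := by rw [hπ, map_mul, Equiv.Perm.sign_swap hik, Equiv.Perm.sign_swap hjl]; rfl
    let P : SpecialLinearGroup ι K := ⟨π.permMatrix K, by rw [Matrix.det_permutation, hsgn]; simp⟩
    have hππ : ∀ x, π (π x) = x := by
      intro x
      simp only [hπ, Equiv.Perm.mul_apply]
      by_cases hxj : x = j
      · subst hxj
        simp [Equiv.swap_apply_of_ne_of_ne, hij.symm, h₂, h₁.symm, hkl.symm, hjl, Ne.symm hjl]
      by_cases hxl : x = l
      · subst hxl
        simp [Equiv.swap_apply_of_ne_of_ne, hij.symm, h₂, h₁.symm, hkl.symm, hjl, Ne.symm hjl]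
      rw [Equiv.swap_apply_of_ne_of_ne hxj hxl]
      by_cases hxi : x = i
      · subst hxi; simp [Equiv.swap_apply_of_ne_of_ne, Ne.symm h₂, hkl]
      by_cases hxk : x = k
      · subst hxk; simp [Equiv.swap_apply_of_ne_of_ne, hij, h₁]
      rw [Equiv.swap_apply_of_ne_of_ne hxi hxk, Equiv.swap_apply_of_ne_of_ne hxj hxl,
        Equiv.swap_apply_of_ne_of_ne hxi hxk]
    have hPc : ∀ {p q : ι} (h : p ≠ q) (v : K),
        P * tv h v * P⁻¹ = tv (π.injective.ne h) v := by
      intro p q h v
      rw [mul_inv_eq_iff_eq_mul]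
      refine sl_eq ?_
      show π.permMatrix K * Matrix.transvection p q v = Matrix.transvection (π p) (π q) v * π.permMatrix K
      ext x y
      rw [Equiv.Perm.permMatrix, PEquiv.toMatrix_toPEquiv_mul, PEquiv.mul_toMatrix_toPEquiv]
      simp only [Matrix.submatrix_apply, id_eq, Matrix.transvection, Matrix.add_apply, Matrix.one_apply,
        Matrix.single_apply]
      have hsym : ∀ z, π.symm z = π z := fun z => by rw [Equiv.symm_apply_eq, hππ]
      rw [hsym]
      congr 1
      · exact if_congr ⟨fun e => by rw [← e, hππ], fun e => by rw [e, hππ]⟩ rfl rfl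
      · exact if_congr ⟨fun e => ⟨by rw [e.1, hππ], by rw [e.2]⟩,
          fun e => ⟨by rw [← hππ p, e.1], π.injective e.2⟩⟩ rfl rfl
    obtain ⟨g, hg⟩ := hs P
    obtain ⟨A, hA⟩ := hs (tv hij (1 : K))
    obtain ⟨B, hB⟩ := hs (tv hkl (1 : K))
    have hmem : σ ⁅A, B⁆ = 1 := by
      rw [map_commutatorElement, hA, hB, commutatorElement_eq_one_iff_commute]
      exact tv_commute hij hkl h₁ h₂ 1 1
    have hπi : π i = k := by simp [hπ, Equiv.swap_apply_of_ne_of_ne, hij, h₁]
    have hπj : π j = l := by simp [hπ, Equiv.swap_apply_of_ne_of_ne, h₁.symm, hkl.symm]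
    have hπk : π k = i := by simp [hπ, Equiv.swap_apply_of_ne_of_ne, Ne.symm h₂, hkl]
    have hπl : π l = j := by simp [hπ, Equiv.swap_apply_of_ne_of_ne, hij.symm, h₂]
    have e1 : g * ⁅A, B⁆ * g⁻¹ = ⁅B, A⁆ := conj_comm hc g A B B A
      (by rw [hg, hA, hPc, hB]; simp [hπi, hπj])
      (by rw [hg, hB, hPc, hA]; simp [hπk, hπl])
    rw [(central_of_one hc hmem g).eq, mul_inv_cancel_right, ← commutatorElement_inv A B] at e1
    have e2 : ⁅A, B⁆ ^ 2 = 1 := by rw [sq]; nth_rewrite 1 [e1]; rw [inv_mul_cancel]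
    have e3 : ⁅A, B⁆ ^ 3 = 1 := by
      rw [← PGroup.commutator_pow_left (central_of_one hc hmem A), commutatorElement_eq_one_iff_commute]
      refine (central_of_one hc ?_ B).symm
      rw [map_pow, hA, tv_pow, ← hq3, FiniteField.cast_card_eq_zero, zero_mul, tv_zero]
    have hAB : Commute A B := by
      rw [← commutatorElement_eq_one_iff_commute]
      simpa [pow_succ, e2] using (pow_succ ⁅A, B⁆ 2).symm.trans e3
    have hpow : ∀ {p q : ι} (h : p ≠ q) (v : K) (Z A : Γ), σ Z = tv h v → σ A = tv h 1 →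
        ∃ n : ℕ, σ Z = σ (A ^ n) := by
      intro p q h v Z A hZ hA
      rcases hu v with rfl | rfl | rfl
      · exact ⟨0, by rw [hZ, pow_zero, map_one, tv_zero]⟩
      · exact ⟨1, by rw [hZ, pow_one, hA]⟩
      · refine ⟨2, ?_⟩
        rw [hZ, map_pow, hA, tv_pow, mul_one]
        congr 1
        have := FiniteField.cast_card_eq_zero K
        rw [hq3] at this
        push_cast at this ⊢
        linear_combination -this
    obtain ⟨n₁, hn₁⟩ := hpow hij t X A hX hA
    obtain ⟨n₂, hn₂⟩ := hpow hkl u Y B hY hB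
    rw [← commutatorElement_eq_one_iff_commute, comm_congr hc hn₁ hn₂, commutatorElement_eq_one_iff_commute]
    exact hAB.pow_pow n₁ n₂
  obtain ⟨a, ha⟩ := exists_unit_pow_ne (K := K) (n := 2) (by norm_num) (fun h => by
    have := hok.2.2 hn
    have := Nat.le_of_dvd (by norm_num) h
    interval_cases hqq : Fintype.card K - 1
    all_goals omega)
  refine commute_of_tor hs hc (Pi.single i 1 + Pi.single j (-1)) (by simp [Finset.sum_add_distrib]) a
    hij hkl h₁ h₂ ?_ ?_ hX hY
  · simp [Pi.single_apply, hik, hjl, h₁, h₂, Ne.symm hik, Ne.symm hjl, h₁.symm, h₂.symm]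
  · simpa [Pi.single_apply, hij, hij.symm, show (1 : ℤ) + 1 = 2 by norm_num, _root_.zpow_ofNat] using ha

/-- The commutator of lifts of x_ik(t) and x_kj(u). -/
noncomputable def G {i k j : ι} (hik : i ≠ k) (hkj : k ≠ j) (t u : K) : Γ :=
  ⁅T hs hik t, T hs hkj u⁆

theorem σG {i k j : ι} (hik : i ≠ k) (hkj : k ≠ j) (hij : i ≠ j) (t u : K) :
    σ (G hs hik hkj t u) = tv hij (t * u) := by
  rw [G, map_commutatorElement, σT, σT, Linear.transvection_mul_comm hik hkj hij]

include hc in
theorem G_eq {i k j : ι} (hik : i ≠ k) (hkj : k ≠ j) {t u : K} {A B : Γ} (hA : σ A = tv hik t)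
    (hB : σ B = tv hkj u) : ⁅A, B⁆ = G hs hik hkj t u :=
  comm_congr hc (by rw [hA, σT]) (by rw [hB, σT])

include hc hok in
theorem G_add_left {i k j : ι} (hik : i ≠ k) (hkj : k ≠ j) (hij : i ≠ j) (t t' u : K) :
    G hs hik hkj (t + t') u = G hs hik hkj t' u * G hs hik hkj t u := by
  rw [← G_eq hs hc hik hkj (A := T hs hik t * T hs hik t') (B := T hs hkj u)
    (by rw [map_mul, σT, σT]; exact (SpecialLinearGroup.transvection_add hik t t').symm) (σT hs _ _)]
  exact PGroup.commutator_mul_left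
    (commute_lift hs hc hok hik hij hij hik.symm (σT hs _ _) (σG hs hik hkj hij t' u))

include hc hok in
theorem G_add_right {i k j : ι} (hik : i ≠ k) (hkj : k ≠ j) (hij : i ≠ j) (t u u' : K) :
    G hs hik hkj t (u + u') = G hs hik hkj t u * G hs hik hkj t u' := by
  rw [← G_eq hs hc hik hkj (A := T hs hik t) (B := T hs hkj u * T hs hkj u')
    (σT hs _ _) (by rw [map_mul, σT, σT]; exact (SpecialLinearGroup.transvection_add hkj u u').symm)]
  exact PGroup.commutator_mul_right
    (commute_lift hs hc hok hkj hij hkj hij.symm (σT hs _ _) (σG hs hik hkj hij t u'))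

include hc hok in
/-- Associativity, from four indices. -/
theorem G_assoc {i j k l : ι} (hik : i ≠ k) (hkl : k ≠ l) (hlj : l ≠ j) (hil : i ≠ l) (hkj : k ≠ j)
    (hij : i ≠ j) (a b c : K) :
    G hs hil hlj (a * b) c = G hs hik hkj a (b * c) := by
  set A := T hs hik a
  set B := T hs hkl b
  set C := T hs hlj c
  set X := ⁅A, B⁆ with hXd
  set Y := ⁅B, C⁆ with hYd
  have hX : σ X = tv hil (a * b) := σG hs hik hkl hil a b
  have hY : σ Y = tv hkj (b * c) := σG hs hkl hlj hkj b c
  set W := ⁅X, C⁆ with hWd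
  set V := ⁅A, Y⁆ with hVd
  have hW : W = G hs hil hlj (a * b) c := G_eq hs hc hil hlj hX (σT hs _ _)
  have hV : V = G hs hik hkj a (b * c) := G_eq hs hc hik hkj (σT hs _ _) hY
  have hAC : Commute A C := commute_lift hs hc hok hik hlj hij hkl (σT hs _ _) (σT hs _ _)
  have hXY : Commute X Y := commute_lift hs hc hok hil hkj hij hkl.symm hX hY
  have hσV : σ V = tv hij (a * (b * c)) := by rw [hV, σG hs hik hkj hij]
  have hVY : Commute V Y := commute_lift hs hc hok hij hkj hij hkj.symm hσV hY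
  have hVX : Commute V X := commute_lift hs hc hok hij hil hil hij.symm hσV hX
  rw [← hW, ← hV]
  have hA : A * C * A⁻¹ = C := by rw [hAC.eq, mul_inv_cancel_right]
  have hAB : A * B * A⁻¹ = X * B := by rw [hXd, commutatorElement_def]; group
  have hAY : A * Y⁻¹ * A⁻¹ = Y⁻¹ * V⁻¹ := by rw [hVd, commutatorElement_def]; group
  have e1 : C * (X * B) = Y⁻¹ * V⁻¹ * (X * B) * C :=
    calc C * (X * B) = A * C * A⁻¹ * (A * B * A⁻¹) := by rw [hA, hAB]
      _ = A * (C * B) * A⁻¹ := by group
      _ = A * (Y⁻¹ * B * C) * A⁻¹ := by rw [hYd, commutatorElement_def]; group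
      _ = A * Y⁻¹ * A⁻¹ * (A * B * A⁻¹) * (A * C * A⁻¹) := by group
      _ = _ := by rw [hA, hAB, hAY]
  have e2 : Y⁻¹ * V⁻¹ * (X * B) * C = V⁻¹ * X * C * B :=
    calc Y⁻¹ * V⁻¹ * (X * B) * C = Y⁻¹ * V⁻¹ * X * (B * C) := by group
      _ = V⁻¹ * Y⁻¹ * X * (B * C) := by rw [(hVY.inv_left.inv_right).eq]
      _ = V⁻¹ * (Y⁻¹ * X) * (B * C) := by group
      _ = V⁻¹ * (X * Y⁻¹) * (B * C) := by rw [(hXY.inv_right).eq]
      _ = V⁻¹ * X * (Y⁻¹ * (B * C)) := by group
      _ = _ := by rw [hYd, commutatorElement_def]; group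
  have e3 : C * X = V⁻¹ * (X * C) :=
    mul_right_cancel (b := B) (by rw [mul_assoc, e1, e2]; group)
  rw [hWd, commutatorElement_def]
  calc X * C * X⁻¹ * C⁻¹ = X * C * (C * X)⁻¹ := by group
    _ = X * C * (V⁻¹ * (X * C))⁻¹ := by rw [e3]
    _ = _ := by group

include hc hok in
/-- G depends only on the product. -/
theorem G_bil {i k j : ι} (hik : i ≠ k) (hkj : k ≠ j) (hij : i ≠ j) (t u : K) :
    G hs hik hkj t u = G hs hik hkj 1 (t * u) := by
  classical
  by_cases hn4 : 4 ≤ Fintype.card ι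
  · obtain ⟨l, hl⟩ := exists_notMem ({i, j, k} : Finset ι) (Finset.card_le_three.trans_lt hn4)
    simp only [Finset.mem_insert, Finset.mem_singleton, not_or] at hl
    have h1 := G_assoc hs hc hok (i := i) (j := j) (k := l) (l := k) (Ne.symm hl.1) hl.2.2 hkj hik
      hl.2.1 hij 1 t u
    rw [one_mul] at h1
    have h2 := G_assoc hs hc hok (i := i) (j := j) (k := l) (l := k) (Ne.symm hl.1) hl.2.2 hkj hik
      hl.2.1 hij 1 1 (t * u)
    rw [one_mul, one_mul] at h2
    rw [h1, h2]
  have hn3 : Fintype.card ι = 3 := by have := hok.1; omega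
  obtain ⟨hq2, hq4⟩ := hok.2.1 hn3
  let S : Subring K :=
    { carrier := {l | ∀ t u : K, G hs hik hkj (l * t) u = G hs hik hkj t (l * u)}
      zero_mem' := fun t u => by
        have hz1 : G hs hik hkj (0 : K) u = 1 := by
          have := G_add_left hs hc hok hik hkj hij 0 0 u
          rw [add_zero] at this; exact left_eq_mul.1 this
        have hz2 : G hs hik hkj t (0 : K) = 1 := by
          have := G_add_right hs hc hok hik hkj hij t 0 0
          rw [add_zero] at this; exact left_eq_mul.1 this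
        rw [zero_mul, zero_mul, hz1, hz2]
      one_mem' := fun t u => by rw [one_mul, one_mul]
      add_mem' := fun {a b} ha hb t u => by
        rw [add_mul, add_mul, G_add_left hs hc hok hik hkj hij, G_add_right hs hc hok hik hkj hij, ha, hb]
        exact (commute_lift hs hc hok hij hij hij hij.symm (σG hs hik hkj hij _ _) (σG hs hik hkj hij _ _)).eq
      mul_mem' := fun {a b} ha hb t u => by
        rw [mul_assoc, ha, hb, ← mul_assoc, mul_comm b a]
      neg_mem' := fun {a} ha t u => by
        have hz1 : ∀ x y : K, G hs hik hkj (-x) y = (G hs hik hkj x y)⁻¹ := fun x y => by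
          have h1 := G_add_left hs hc hok hik hkj hij x (-x) y
          have h0 := G_add_left hs hc hok hik hkj hij 0 0 y
          rw [add_zero] at h0
          rw [add_neg_cancel, left_eq_mul.1 h0] at h1
          exact eq_inv_of_mul_eq_one_left h1.symm
        have hz2 : ∀ x y : K, G hs hik hkj x (-y) = (G hs hik hkj x y)⁻¹ := fun x y => by
          have h1 := G_add_right hs hc hok hik hkj hij x y (-y)
          have h0 := G_add_right hs hc hok hik hkj hij x 0 0
          rw [add_zero] at h0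
          rw [add_neg_cancel, left_eq_mul.1 h0] at h1
          exact eq_inv_of_mul_eq_one_right h1.symm
        rw [neg_mul, neg_mul, hz1, hz2, ha] }
  have hcube : ∀ a : Kˣ, ((a : K) ^ 3) ∈ S := by
    intro a t u
    set e : ι → ℤ := Pi.single i 1 + Pi.single j 1 + Pi.single k (-2) with hedef
    have he : ∑ r, e r = 0 := sum_three i k j
    obtain ⟨g, hg⟩ := hs (tor e he a)
    have e1 : e i - e k = 3 := by simp [hedef, hij, hik, hkj.symm, hik.symm, hij.symm, hkj]
    have e2 : e k - e j = -3 := by simp [hedef, hij, hik, hkj.symm, hik.symm, hij.symm, hkj]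
    have e3 : e i = e j := by simp [hedef, hij, hik, hkj.symm, hik.symm, hij.symm, hkj]
    have h1 : g * G hs hik hkj t ((a : K) ^ 3 * u) * g⁻¹ = G hs hik hkj ((a : K) ^ 3 * t) u := by
      refine conj_comm hc g _ _ _ _ ?_ ?_
      · rw [hg, σT, σT, tor_conj, e1]; simp [_root_.zpow_ofNat]
      · rw [hg, σT, σT, tor_conj, e2]; simp [_root_.zpow_ofNat, ← mul_assoc]
    rw [(commute_tor hs hc e he a hij e3 hg (σG hs hik hkj hij _ _)).eq, mul_inv_cancel_right] at h1
    exact h1.symm
  suffices htop : ∀ l : K, l ∈ S by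
    have := htop t 1 u
    rwa [mul_one] at this
  let F' : Subfield K :=
    { S with
      inv_mem' := fun x hx => by
        rcases eq_or_ne x 0 with rfl | h0
        · rw [_root_.inv_zero]; exact S.zero_mem
        · have h1 := FiniteField.pow_card_sub_one_eq_one x h0
          have hq := Fintype.one_lt_card (α := K)
          rw [show Fintype.card K - 1 = Fintype.card K - 2 + 1 by omega, pow_succ] at h1
          rw [inv_eq_of_mul_eq_one_left h1]
          exact S.pow_mem hx _ }
  have hbig : Fintype.card K + 2 ≤ 3 * Nat.card F' := by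
    let U : Finset K := insert 0 ((Finset.univ : Finset Kˣ).image fun a : Kˣ => (a : K) ^ 3)
    have hsub : ∀ x ∈ U, x ∈ F' := by
      intro x hx
      simp only [U, Finset.mem_insert, Finset.mem_image, Finset.mem_univ, true_and] at hx
      rcases hx with rfl | ⟨a, rfl⟩
      exacts [F'.zero_mem, hcube a]
    have hker : ∀ y : K, ((Finset.univ : Finset Kˣ).filter fun a : Kˣ => (a : K) ^ 3 = y).card ≤ 3 := by
      intro y
      calc ((Finset.univ : Finset Kˣ).filter fun a : Kˣ => (a : K) ^ 3 = y).card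
          = (((Finset.univ : Finset Kˣ).filter fun a : Kˣ => (a : K) ^ 3 = y).image fun a : Kˣ => (a : K)).card :=
            (Finset.card_image_of_injective _ Units.val_injective).symm
        _ ≤ ((Polynomial.X ^ 3 - Polynomial.C y : Polynomial K).roots.toFinset).card := by
            refine Finset.card_le_card fun x hx => ?_
            simp only [Finset.mem_image, Finset.mem_filter] at hx
            obtain ⟨a, ⟨-, ha⟩, rfl⟩ := hx
            rw [Multiset.mem_toFinset, Polynomial.mem_roots (Polynomial.X_pow_sub_C_ne_zero (by norm_num) y)]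
            simp [ha]
        _ ≤ 3 := (Multiset.toFinset_card_le _).trans ((Polynomial.card_roots' _).trans
            (Polynomial.natDegree_X_pow_sub_C (r := y)).le)
    have himg : Fintype.card K - 1 ≤ 3 * ((Finset.univ : Finset Kˣ).image fun a : Kˣ => (a : K) ^ 3).card := by
      rw [← Fintype.card_units, ← Finset.card_univ]
      exact Finset.card_le_mul_card_image _ 3 fun y _ => hker y
    have hU : U.card = ((Finset.univ : Finset Kˣ).image fun a : Kˣ => (a : K) ^ 3).card + 1 := by
      refine Finset.card_insert_of_notMem ?_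
      simp
    have : U.card ≤ Nat.card F' := by
      rw [← Nat.card_eq_finsetCard]
      exact Nat.card_le_card_of_injective (fun x : U => (⟨x.1, hsub x.1 x.2⟩ : F'))
        fun x y h => Subtype.ext (congrArg (fun z : F' => (z : K)) h)
    omega
  have hcard : Nat.card K = Nat.card F' ^ Module.finrank F' K := Module.natCard_eq_pow_finrank
  have hd : 0 < Module.finrank F' K := Module.finrank_pos
  have hne : Module.finrank F' K = 1 := by
    by_contra hne
    have h2 : Nat.card F' ^ 2 ≤ Nat.card K := by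
      rw [hcard]; exact Nat.pow_le_pow_right Nat.card_pos (by omega)
    rw [Nat.card_eq_fintype_card (α := K)] at h2
    have hs2 : 2 ≤ Nat.card F' := Finite.one_lt_card
    have hs3 : Nat.card F' ≤ 2 := by nlinarith
    have hs' : Nat.card F' = 2 := by omega
    rw [hs'] at h2 hbig hcard
    rw [Nat.card_eq_fintype_card] at hcard
    rcases (show Module.finrank F' K = 2 ∨ 3 ≤ Module.finrank F' K by omega) with h | h
    · rw [h] at hcard; omega
    · have := Nat.pow_le_pow_right (show 0 < 2 by norm_num) h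
      omega
  rw [hne, pow_one] at hcard
  intro l
  have : (Subtype.val : F' → K).Bijective :=
    (Nat.bijective_iff_injective_and_card _).2 ⟨Subtype.val_injective, hcard.symm⟩
  obtain ⟨x, rfl⟩ := this.2 l
  exact x.2

include hc hok in
theorem G_indep {i j k k' : ι} (hik : i ≠ k) (hkj : k ≠ j) (hik' : i ≠ k') (hk'j : k' ≠ j)
    (hij : i ≠ j) (t : K) : G hs hik hkj 1 t = G hs hik' hk'j 1 t := by
  by_cases h : k = k'
  · subst h; rfl
  have := G_assoc hs hc hok (i := i) (j := j) (k := k') (l := k) hik' (Ne.symm h) hkj hik hk'j hij 1 1 t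
  rwa [one_mul, one_mul] at this

end Ext

section Fin

variable {K : Type*} [Field K] [Fintype K] {n : ℕ}

/-- Apart from the exceptional pairs every central extension of SL_n(q) has a section. -/
theorem exists_section (hok : Ok (Fin n) K) {Γ : Type u} [Group Γ]
    (σ : Γ →* Matrix.SpecialLinearGroup (Fin n) K) (hs : Function.Surjective σ)
    (hc : σ.ker ≤ Subgroup.center Γ) : ∃ s : Matrix.SpecialLinearGroup (Fin n) K →* Γ, σ.comp s = MonoidHom.id _ := by
  classical
  have hn : 3 ≤ n := by simpa using hok.1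
  have h3 : ∀ i j : Fin n, ∃ k, i ≠ k ∧ k ≠ j := fun i j => Linear.exists_third (by simpa using hn) i j
  choose m hm1 hm2 using h3
  obtain ⟨e, he⟩ := S2401.result (K := K) n hn
  let y : {ij : Fin n × Fin n // ij.1 ≠ ij.2} → K → Γ := fun a t =>
    G hs (hm1 a.1.1 a.1.2) (hm2 a.1.1 a.1.2) 1 t
  have hy : ∀ a t, σ (y a t) = tv a.2 t := fun a t => by
    rw [σG hs _ _ a.2, one_mul]
  let f : {ij : Fin n × Fin n // ij.1 ≠ ij.2} × K → Γ := fun p => y p.1 p.2
  have hrel : ∀ g ∈ ({g : FreeGroup ({ij : Fin n × Fin n // ij.1 ≠ ij.2} × K) | ∃ (a : {ij : Fin n × Fin n // ij.1 ≠ ij.2}) (t u : K),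
            g = FreeGroup.of (a, t) * FreeGroup.of (a, u) * (FreeGroup.of (a, t + u))⁻¹} ∪
          {g | ∃ (a b : {ij : Fin n × Fin n // ij.1 ≠ ij.2}) (t u : K), a.1.1 ≠ b.1.2 ∧ a.1.2 ≠ b.1.1 ∧
            g = FreeGroup.of (a, t) * FreeGroup.of (b, u) * (FreeGroup.of (a, t))⁻¹ * (FreeGroup.of (b, u))⁻¹} ∪
          {g | ∃ (a b : {ij : Fin n × Fin n // ij.1 ≠ ij.2}) (h : a.1.1 ≠ b.1.2) (t u : K), a.1.2 = b.1.1 ∧
            g = FreeGroup.of (a, t) * FreeGroup.of (b, u) * (FreeGroup.of (a, t))⁻¹ * (FreeGroup.of (b, u))⁻¹ *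
              (FreeGroup.of (⟨(a.1.1, b.1.2), h⟩, t * u))⁻¹}), FreeGroup.lift f g = 1 := by
    rintro g ((⟨a, t, u, rfl⟩ | ⟨a, b, t, u, h₁, h₂, rfl⟩) | ⟨a, b, h, t, u, h₁, rfl⟩)
    · simp only [map_mul, map_inv, FreeGroup.lift_apply_of, f, mul_inv_eq_one]
      exact (G_add_right hs hc hok _ _ a.2 1 t u).symm
    · simp only [map_mul, map_inv, FreeGroup.lift_apply_of, f]
      rw [← commutatorElement_def, commutatorElement_eq_one_iff_commute]
      exact commute_lift hs hc hok a.2 b.2 h₁ h₂ (hy a t) (hy b u)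
    · obtain ⟨⟨i, k⟩, hik⟩ := a
      obtain ⟨⟨k', j⟩, hkj⟩ := b
      dsimp only at h₁ h hik hkj
      subst h₁
      simp only [map_mul, map_inv, FreeGroup.lift_apply_of, f]
      rw [mul_inv_eq_one, ← commutatorElement_def, G_eq hs hc hik hkj (hy _ t) (hy _ u),
        G_bil hs hc hok hik hkj h t u]
      exact G_indep hs hc hok hik hkj _ _ h _
  refine ⟨(PresentedGroup.toGroup hrel).comp e.symm.toMonoidHom, ?_⟩
  have key : σ.comp (PresentedGroup.toGroup hrel) = e.toMonoidHom := by
    refine PresentedGroup.ext fun p => ?_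
    rw [MonoidHom.comp_apply, PresentedGroup.toGroup.of]
    exact sl_eq ((congrArg (fun g : SpecialLinearGroup (Fin n) K => (g : Matrix (Fin n) (Fin n) K)) (hy p.1 p.2)).trans (he p.1 p.2).symm)
  refine MonoidHom.ext fun g => ?_
  have := DFunLike.congr_fun key (e.symm g)
  simpa using this

end Fin

end Cfsg.Agent.SLMult
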