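/-
The Schur multiplier of PSL_n over a finite field, the exceptional pairs aside.

* `card_center_sl`: the centre of SL_n(q) has gcd(n, q - 1) elements.
* `psl_multiplier`: it is the multiplier of PSL_n(q).
-/
import Cfsg.Agent.Lib.SLMult.Lift
import Cfsg.Agent.S2117

set_option autoImplicit false

open Matrix
open scoped commutatorElement

namespace Cfsg.Agent.SLMult

universe u

theorem card_center_sl {F : Type*} [Field F] [Fintype F] (n : ℕ) (hn : 1 ≤ n) :
    Nat.card (Subgroup.center (SpecialLinearGroup (Fin n) F)) = Nat.gcd n (Fintype.card F - 1) := by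
  classical
  rw [Nat.card_congr (SpecialLinearGroup.center_equiv_rootsOfUnity' (⟨0, hn⟩ : Fin n)).toEquiv,
    Fintype.card_fin]
  have he : rootsOfUnity n F = (powMonoidHom n : Fˣ →* Fˣ).ker := by
    ext x; simp [mem_rootsOfUnity]
  rw [he, IsCyclic.card_powMonoidHom_ker (G := Fˣ) (d := n), Nat.card_eq_fintype_card, Fintype.card_units,
    Nat.gcd_comm]

theorem isCyclic_center_sl {F : Type*} [Field F] [Fintype F] (n : ℕ) (hn : 1 ≤ n) :
    IsCyclic (Subgroup.center (SpecialLinearGroup (Fin n) F)) := by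
  haveI : NeZero (Fintype.card (Fin n)) := ⟨by rw [Fintype.card_fin]; omega⟩
  let e := SpecialLinearGroup.center_equiv_rootsOfUnity' (R := F) (⟨0, hn⟩ : Fin n)
  exact isCyclic_of_injective e.toMonoidHom e.injective

/-- A perfect group maps onto a stem extension through any map to it. -/
theorem surjective_of_comp {S G Γ : Type*} [Group S] [Group G] [Group Γ] (_hS : commutator S = ⊤)
    {σ : Γ →* G} (hc : σ.ker ≤ Subgroup.center Γ) (hd : σ.ker ≤ commutator Γ) {τ : S →* Γ}
    (hτ : Function.Surjective (σ.comp τ)) : Function.Surjective τ := by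
  have hdec : ∀ x : Γ, ∃ s : S, (τ s)⁻¹ * x ∈ σ.ker := fun x => by
    obtain ⟨s, hs⟩ := hτ (σ x)
    exact ⟨s, by rw [MonoidHom.mem_ker, map_mul, map_inv, ← MonoidHom.comp_apply σ τ, hs, inv_mul_cancel]⟩
  have hD : commutator Γ ≤ τ.range := by
    rw [commutator_def, Subgroup.commutator_le]
    intro x _ y _
    obtain ⟨s, hs⟩ := hdec x
    obtain ⟨t, ht⟩ := hdec y
    have h1 := Subgroup.mem_center_iff.1 (hc hs)
    have h2 := Subgroup.mem_center_iff.1 (hc ht)
    refine ⟨⁅s, t⁆, ?_⟩
    rw [map_commutatorElement]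
    set z := (τ s)⁻¹ * x with hz
    set w := (τ t)⁻¹ * y with hw
    rw [show x = τ s * z by rw [hz]; group, show y = τ t * w by rw [hw]; group, commutatorElement_def,
      commutatorElement_def]
    calc τ s * τ t * (τ s)⁻¹ * (τ t)⁻¹ = τ s * τ t * ((τ s)⁻¹ * w) * (w⁻¹ * (τ t)⁻¹) := by group
      _ = τ s * τ t * (w * (τ s)⁻¹) * (w⁻¹ * (τ t)⁻¹) := by rw [h2]
      _ = τ s * (τ t * w * z) * (z⁻¹ * (τ s)⁻¹) * (w⁻¹ * (τ t)⁻¹) := by group
      _ = τ s * (z * (τ t * w)) * (z⁻¹ * (τ s)⁻¹) * (w⁻¹ * (τ t)⁻¹) := by rw [h1]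
      _ = _ := by group
  intro x
  obtain ⟨s, hs⟩ := hdec x
  obtain ⟨t, ht⟩ := hD (hd hs)
  exact ⟨s * t, by rw [map_mul, ht, mul_inv_cancel_left]⟩

/-- PSL_n(q): the conditions of the two cases. -/
theorem psl_multiplier {F : Type u} [Field F] [Fintype F] (n : ℕ) (hn : 2 ≤ n)
    (h2 : n = 2 → 4 ≤ Fintype.card F ∧ Fintype.card F ≠ 4 ∧ Fintype.card F ≠ 9)
    (h3 : 3 ≤ n → Ok (Fin n) F) :
    Cfsg.HasCyclicSchurMultiplier (ProjectiveSpecialLinearGroup (Fin n) F)
      (Nat.gcd n (Fintype.card F - 1)) := by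
  classical
  let S := SpecialLinearGroup (Fin n) F
  have hS : commutator S = ⊤ := by
    refine Linear.commutator_sl_eq_top ?_
    rw [Fintype.card_fin]
    rcases hn.eq_or_lt with h | h
    · right
      obtain ⟨hq, -, -⟩ := h2 h.symm
      obtain ⟨a, ha⟩ := exists_unit_pow_ne (K := F) (n := 2) (by norm_num) (fun hd => by
        have := Nat.le_of_dvd (by norm_num) hd; omega)
      exact ⟨a, a.ne_zero, fun hc => ha (Units.ext (by rw [Units.val_pow_eq_pow_val, hc, Units.val_one]))⟩
    · exact Or.inl h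
  let ρ : S →* ProjectiveSpecialLinearGroup (Fin n) F := QuotientGroup.mk' _
  have hρ : Function.Surjective ρ := QuotientGroup.mk'_surjective _
  have hker : ρ.ker = Subgroup.center S := QuotientGroup.ker_mk' _
  refine ⟨⟨S, inferInstance, inferInstance, ρ, ⟨hρ, hker.le, ?_⟩, ?_⟩, ?_⟩
  · rw [hS]; exact le_top
  · haveI := isCyclic_center_sl (F := F) n (by omega)
    haveI : IsCyclic ρ.ker := isCyclic_of_surjective (MulEquiv.subgroupCongr hker).symm
      (MulEquiv.surjective _)
    refine ⟨mulEquivOfCyclicCardEq ?_⟩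
    rw [hker, card_center_sl n (by omega), Nat.card_eq_of_bijective Multiplicative.toAdd
      Multiplicative.toAdd.bijective, Nat.card_zmod]
  intro Γ _ _ σ ⟨hσs, hσc, hσd⟩
  -- a map from SL_n over PSL_n
  obtain ⟨τ, hτ⟩ : ∃ τ : S →* Γ, σ.comp τ = ρ := by
    let P : Subgroup (Γ × S) := MonoidHom.eqLocus (σ.comp (MonoidHom.fst Γ S)) (ρ.comp (MonoidHom.snd Γ S))
    let π : P →* S := (MonoidHom.snd Γ S).comp P.subtype
    have hπ : Function.Surjective π := fun s => by
      obtain ⟨γ, hγ⟩ := hσs (ρ s)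
      exact ⟨⟨(γ, s), hγ⟩, rfl⟩
    have hπc : π.ker ≤ Subgroup.center P := fun x hx => Subgroup.mem_center_iff.2 fun y => by
      have h1 : (x : Γ × S).2 = 1 := hx
      have h0 : (x : Γ × S).1 ∈ σ.ker := by
        rw [MonoidHom.mem_ker]
        have := x.2
        show σ (x : Γ × S).1 = 1
        rw [show σ (x : Γ × S).1 = ρ (x : Γ × S).2 from this, h1, map_one]
      refine Subtype.ext (Prod.ext (Subgroup.mem_center_iff.1 (hσc h0) _) ?_)
      show (y : Γ × S).2 * (x : Γ × S).2 = (x : Γ × S).2 * (y : Γ × S).2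
      rw [h1, mul_one, one_mul]
    obtain ⟨s, hs⟩ : ∃ s : S →* P, π.comp s = MonoidHom.id S := by
      rcases hn.eq_or_lt with h | h
      · subst h
        obtain ⟨-, h4, h9⟩ := h2 rfl
        have hsur : ∀ x : P, ∃ d ∈ commutator P, ∃ z ∈ π.ker, x = d * z := by
          intro x
          have : π x ∈ (commutator P).map π := by
            rw [commutator_def, Subgroup.map_commutator, Subgroup.map_top_of_surjective π hπ, ← commutator_def, hS]
            trivial
          obtain ⟨d, hd, he⟩ := this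
          exact ⟨d, hd, d⁻¹ * x, by rw [MonoidHom.mem_ker, map_mul, map_inv, he, inv_mul_cancel], by group⟩
        set D := commutator P with hDdef
        let πD : D →* S := π.comp D.subtype
        have hDp : commutator D = ⊤ := by
          have hle : D ≤ (commutator D).map D.subtype := by
            rw [commutator_def (G := D), Subgroup.map_commutator, ← MonoidHom.range_eq_map, Subgroup.range_subtype]
            have hDD : ⁅(⊤ : Subgroup P), (⊤ : Subgroup P)⁆ ≤ ⁅D, D⁆ := Subgroup.commutator_le.2 fun x _ y _ => by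
              obtain ⟨d, hd, z, hz, rfl⟩ := hsur x
              obtain ⟨e, he, w, hw, rfl⟩ := hsur y
              have h1 := Subgroup.mem_center_iff.1 (hπc hz)
              have h2 := Subgroup.mem_center_iff.1 (hπc hw)
              have : ⁅d * z, e * w⁆ = ⁅d, e⁆ := by
                rw [commutatorElement_def, commutatorElement_def]
                calc d * z * (e * w) * (d * z)⁻¹ * (e * w)⁻¹
                    = d * (z * (e * w)) * (z⁻¹ * d⁻¹) * (w⁻¹ * e⁻¹) := by group
                  _ = d * (e * w * z) * (z⁻¹ * d⁻¹) * (w⁻¹ * e⁻¹) := by rw [← h1]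
                  _ = d * e * (w * d⁻¹) * (w⁻¹ * e⁻¹) := by group
                  _ = d * e * (d⁻¹ * w) * (w⁻¹ * e⁻¹) := by rw [← h2]
                  _ = _ := by group
              rw [this]
              exact Subgroup.commutator_mem_commutator hd he
            conv_lhs => rw [hDdef, commutator_def]
            exact hDD
          refine eq_top_iff.2 fun x _ => ?_
          obtain ⟨y, hy, he⟩ := hle x.2
          rwa [Subtype.ext he] at hy
        have hstem : Cfsg.IsStemExtension πD := by
          refine ⟨fun s => ?_, fun x hx => Subgroup.mem_center_iff.2 fun y => Subtype.ext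
            (Subgroup.mem_center_iff.1 (hπc (show (x : P) ∈ π.ker from hx)) y), by rw [hDp]; exact le_top⟩
          obtain ⟨x, rfl⟩ := hπ s
          obtain ⟨d, hd, z, hz, rfl⟩ := hsur x
          exact ⟨⟨d, hd⟩, by rw [map_mul, MonoidHom.mem_ker.1 hz, mul_one]; rfl⟩
        obtain ⟨π', hπ'⟩ := (S2117.result (F := F) h4 h9).2 D πD hstem
        have hinj : Function.Injective πD := by
          rw [← MonoidHom.ker_eq_bot_iff, eq_bot_iff]
          intro x hx
          obtain ⟨a, ha⟩ := hπ' ⟨x, hx⟩
          have ha1 : a = 1 := by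
            haveI : Subsingleton (Multiplicative (ZMod 1)) := inferInstanceAs (Subsingleton (ZMod 1))
            exact Subsingleton.elim _ _
          rw [ha1, map_one] at ha
          exact Subgroup.mem_bot.2 (congrArg Subtype.val ha).symm
        let e := MulEquiv.ofBijective πD ⟨hinj, hstem.1⟩
        exact ⟨D.subtype.comp e.symm.toMonoidHom, MonoidHom.ext fun s => e.apply_symm_apply s⟩
      · exact exists_section (h3 h) π hπ hπc
    refine ⟨((MonoidHom.fst Γ S).comp P.subtype).comp s, MonoidHom.ext fun x => ?_⟩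
    have h1 : ((s x : P) : Γ × S).2 = x := DFunLike.congr_fun hs x
    show σ ((s x : P) : Γ × S).1 = ρ x
    rw [show σ ((s x : P) : Γ × S).1 = ρ ((s x : P) : Γ × S).2 from (s x).2, h1]
  have hsur : Function.Surjective τ := surjective_of_comp hS hσc hσd (by rw [hτ]; exact hρ)
  have hmem : ∀ z : Subgroup.center S, τ z ∈ σ.ker := fun z => by
    rw [MonoidHom.mem_ker, ← MonoidHom.comp_apply σ τ, hτ, ← MonoidHom.mem_ker, hker]
    exact z.2
  let f : Subgroup.center S →* σ.ker := (τ.comp (Subgroup.center S).subtype).codRestrict σ.ker hmem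
  have hf : Function.Surjective f := by
    rintro ⟨x, hx⟩
    obtain ⟨s, rfl⟩ := hsur x
    refine ⟨⟨s, ?_⟩, rfl⟩
    rw [← hker, MonoidHom.mem_ker, ← hτ]
    exact MonoidHom.mem_ker.1 hx
  haveI := isCyclic_center_sl (F := F) n (by omega)
  haveI : IsCyclic (Multiplicative (ZMod (Nat.gcd n (Fintype.card F - 1)))) := inferInstance
  let e : Multiplicative (ZMod (Nat.gcd n (Fintype.card F - 1))) ≃* Subgroup.center S :=
    mulEquivOfCyclicCardEq (by
      rw [card_center_sl n (by omega), Nat.card_eq_of_bijective Multiplicative.toAdd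
        Multiplicative.toAdd.bijective, Nat.card_zmod])
  exact ⟨f.comp e.toMonoidHom, hf.comp e.surjective⟩

end Cfsg.Agent.SLMult
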